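import Groth.Agent.SmLocalST.EtReg
import Groth.Agent.AlgSpLib.LocP
import Mathlib.RingTheory.RegularLocalRing.Polynomial
import Mathlib.RingTheory.RingHom.StandardSmooth
import Mathlib.AlgebraicGeometry.Morphisms.Smooth

/-!
# Smooth over a field is regular
-/

set_option backward.isDefEq.respectTransparency false

universe u

open CategoryTheory AlgebraicGeometry

namespace Groth.Agent.SmLocalST

theorem isRegularLocalRing_stalk_spec (R : CommRingCat.{u}) [IsRegularRing R] (x : Spec R) :
    IsRegularLocalRing ((Spec R).presheaf.stalk x) := by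
  have : IsLocalization.AtPrime ((Spec.structureSheaf R).presheaf.stalk x) x.asIdeal := inferInstance
  exact IsRegularLocalRing.of_ringEquiv (IsLocalization.algEquiv x.asIdeal.primeCompl
    (Localization.AtPrime x.asIdeal) ((Spec.structureSheaf R).presheaf.stalk x)).toRingEquiv

theorem isRegularLocalRing_stalk_of_smooth_field {k : Type u} [Field k] {U : Scheme.{u}}
    (f : U ⟶ Spec (CommRingCat.of k)) [Smooth f] (u : U) : IsRegularLocalRing (U.presheaf.stalk u) := by
  have : IsLocallyNoetherian U := LocallyOfFiniteType.isLocallyNoetherian f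
  obtain ⟨Y₀, hY₀, V₀, hV₀, hu, eV, hstd⟩ := Smooth.exists_isStandardSmooth f u
  obtain ⟨n, g, hgC, hg⟩ := hstd.exists_etale_mvPolynomial
  let η := Spec.map (CommRingCat.ofHom g)
  have : Etale η := by
    rw [HasRingHomProperty.Spec_iff (P := @Etale)]
    exact hg
  have : IsLocallyNoetherian (Spec Γ(U, V₀)) := isLocallyNoetherian_of_isOpenImmersion hV₀.fromSpec
  have hY : Y₀ = ⊤ := by
    ext x
    simp only [TopologicalSpace.Opens.coe_top, Set.mem_univ, iff_true]
    have h := eV hu
    exact (Subsingleton.elim (f u : PrimeSpectrum k) x) ▸ h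
  subst hY
  have : IsRegularRing Γ(Spec (CommRingCat.of k), ⊤) :=
    IsRegularRing.of_ringEquiv (Scheme.ΓSpecIso (CommRingCat.of k)).commRingCatIsoToRingEquiv.symm
  have hp := hV₀.fromSpec_primeIdealOf ⟨u, hu⟩
  have h1 := isRegularLocalRing_stalk_of_etale η (hV₀.primeIdealOf ⟨u, hu⟩) (isRegularLocalRing_stalk_spec _ _)
  have h2 := isRegularLocalRing_stalk_of_flat hV₀.fromSpec (hV₀.primeIdealOf ⟨u, hu⟩) h1
  have hp' : hV₀.fromSpec (hV₀.primeIdealOf ⟨u, hu⟩) = u := hp
  rw [hp'] at h2
  exact h2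

open AlgSp Groth.Agent.AlgSpLib in
theorem etaleLocally_regular {k : Type u} [Field k] {X : Sp (Spec (CommRingCat.of k))} (hX : IsAlgSpace X)
    (p : X ⟶ (yon (Spec (CommRingCat.of k))).obj (Over.mk (𝟙 _))) (hp : LocP @Smooth p) :
    EtaleLocally (fun U => IsLocallyNoetherian U ∧ ∀ u : ↥U, IsRegularLocalRing ↥(U.presheaf.stalk u)) X := by
  obtain ⟨U, a, hae, has⟩ := hX.atlas
  obtain ⟨φ, hφ⟩ := exists_map_eq (a ≫ p)
  have : Smooth φ.left := hp a (𝟙 _) φ hae (repWith_id _ _) (by rw [hφ, Category.comp_id])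
  have : IsLocallyNoetherian (Over.mk (𝟙 (Spec (CommRingCat.of k)))).left :=
    inferInstanceAs (IsLocallyNoetherian (Spec (CommRingCat.of k)))
  exact ⟨U, a, hae, has, LocallyOfFiniteType.isLocallyNoetherian φ.left,
    fun u => isRegularLocalRing_stalk_of_smooth_field φ.left u⟩

end Groth.Agent.SmLocalST
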