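import Groth.Agent.EtSmLocalST.Basic
import Groth.Agent.AlgSpLib.Points

/-!
# Properties smooth local on source and target
-/

set_option backward.isDefEq.respectTransparency false

universe u

open CategoryTheory CategoryTheory.Limits AlgebraicGeometry Opposite

namespace Groth.Agent.SmLocalST

open _root_.AlgSp Groth.Agent.AlgSpLib Groth.Agent.LargestOpen

variable {S : Scheme.{u}} {P : MorphismProperty (Sp S)}

theorem smooth_id {X : Sp S} (hX : IsAlgSpace X) : LocP @Smooth (𝟙 X) :=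
  EtSmLocalST.smooth_of_etale hX (EtSmLocalST.isEtaleMor_id hX)

theorem isLocalOnSource (hP : IsSmoothLocalST P) : IsLocalOnSource (IsSmCover (S := S)) P := by
  intro ι X Xi g hX hXi hg Y f hY
  refine ⟨fun h i => hP.precomp (hXi i) hX hY _ _ (hg.1 i) h, fun h => (hP.locality hX hY f).2 fun x => ?_⟩
  obtain ⟨i, y, rfl⟩ := hg.2 x
  obtain ⟨U, V, a, b, k, v, hU, hV, ha, hb, comm, hv, hk⟩ := (hP.locality (hXi i) hY _).1 (h i) y
  exact ⟨U, V, a ≫ g i, b, k, v, hU, hV, good_smooth.comp _ _ hU (hXi i) hX ha (hg.1 i), hb,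
    by rw [Category.assoc, comm], by rw [Points.map_comp, hv], hk⟩

theorem isLocalOnBase (hP : IsSmoothLocalST P) : IsLocalOnBase (IsSmCover (S := S)) P := by
  intro ι Y Yi g hY hYi hg X f hX Xi p q hXi sq
  refine ⟨fun h i => hP.baseChange hX hY (hXi i) (hYi i) f (g i) (p i) (q i) (sq i) (hg.1 i) h,
    fun h => (hP.locality hX hY f).2 fun x => ?_⟩
  obtain ⟨i, y, hy⟩ := hg.2 (Points.map f x)
  obtain ⟨z, hz, -⟩ := exists_point_of_isPullback (sq i) x y hy.symm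
  obtain ⟨U, V, a, b, k, v, hU, hV, ha, hb, comm, hv, hk⟩ := (hP.locality (hXi i) (hYi i) _).1 (h i) z
  have hq : LocP @Smooth (q i) :=
    good_smooth.baseChange (p i) (q i) (g i) f (hXi i) (hYi i) hX hY (sq i).flip (hg.1 i)
  exact ⟨U, V, a ≫ q i, b ≫ g i, k, v, hU, hV, good_smooth.comp _ _ hU (hXi i) hX ha hq,
    good_smooth.comp _ _ hV (hYi i) hY hb (hg.1 i),
    by rw [Category.assoc, (sq i).w, ← Category.assoc, comm, Category.assoc],
    by rw [Points.map_comp, hv, hz], hk⟩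

theorem postcomp (hP : IsSmoothLocalST P) {X Y Z : Sp S} (hX : IsAlgSpace X) (hY : IsAlgSpace Y)
    (hZ : IsAlgSpace Z) (f : X ⟶ Y) (g : Y ⟶ Z) (hf : P f) (hg : LocP @Smooth g) : P (f ≫ g) :=
  (hP.locality hX hZ _).2 fun x => ⟨X, Y, 𝟙 X, g, f, x, hX, hY, smooth_id hX, hg,
    Category.id_comp _, Points.map_id x, hf⟩

theorem iff_chart (hP : IsSmoothLocalST P) {X Y : Space S} (f : X ⟶ Y) :
    P f.hom ↔ ∃ (U V : Space S) (a : U ⟶ X) (b : V ⟶ Y) (h : U ⟶ V), LocP @Smooth a.hom ∧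
      LocP @Smooth b.hom ∧ IsSurjectiveMor a.hom ∧ a ≫ f = h ≫ b ∧ P h.hom := by
  refine ⟨fun h => ⟨X, Y, 𝟙 X, 𝟙 Y, f, smooth_id X.property, smooth_id Y.property,
    fun x => ⟨x, Points.map_id x⟩, by rw [Category.id_comp, Category.comp_id], h⟩, ?_⟩
  rintro ⟨U, V, a, b, k, ha, hb, has, comm, hk⟩
  refine (hP.locality X.property Y.property _).2 fun x => ?_
  obtain ⟨v, hv⟩ := has x
  exact ⟨U.obj, V.obj, a.hom, b.hom, k.hom, v, U.property, V.property, ha, hb,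
    congrArg (fun m : U ⟶ Y => m.hom) comm, hv, hk⟩

theorem iff_forall_chart (hP : IsSmoothLocalST P) {X Y : Space S} (f : X ⟶ Y) :
    P f.hom ↔ ∀ (U V W : Space S) (a : U ⟶ X) (b : V ⟶ Y) (h : U ⟶ V) (p : W ⟶ X) (q : W ⟶ V) (e : U ⟶ W),
      IsPullback p.hom q.hom f.hom b.hom → e ≫ p = a → e ≫ q = h → LocP @Smooth b.hom →
      LocP @Smooth e.hom → P h.hom := by
  refine ⟨fun hf U V W a b h p q e sq _ eq hb he => ?_, fun h => ?_⟩
  · have hq := hP.baseChange X.property Y.property W.property V.property f.hom b.hom q.hom p.hom sq hb hf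
    have := hP.precomp U.property W.property V.property e.hom q.hom he hq
    rw [← eq]
    exact this
  · exact h X Y X (𝟙 X) (𝟙 Y) f (𝟙 X) f (𝟙 X) IsPullback.of_id_fst (Category.id_comp _) (Category.id_comp _)
      (smooth_id Y.property) (smooth_id X.property)

theorem iff_base (hP : IsSmoothLocalST P) {X Y : Space S} (f : X ⟶ Y) :
    P f.hom ↔ ∃ (ι : Type u) (Yi Xi : ι → Space S) (g : ∀ i, Yi i ⟶ Y) (p : ∀ i, Xi i ⟶ Yi i)
      (q : ∀ i, Xi i ⟶ X), IsSmCover (fun i => (Yi i).obj) (fun i => (g i).hom) ∧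
      (∀ i, IsPullback (q i).hom (p i).hom f.hom (g i).hom) ∧ ∀ i, P (p i).hom := by
  refine ⟨fun h => ⟨PUnit, fun _ => Y, fun _ => X, fun _ => 𝟙 Y, fun _ => f, fun _ => 𝟙 X,
    ⟨fun _ => smooth_id Y.property, fun y => ⟨⟨⟩, y, Points.map_id y⟩⟩,
    fun _ => IsPullback.of_id_fst, fun _ => h⟩, ?_⟩
  rintro ⟨ι, Yi, Xi, g, p, q, hg, sq, hp⟩
  exact (isLocalOnBase hP (fun i => (Yi i).obj) (fun i => (g i).hom) Y.property (fun i => (Yi i).property) hg
    f.hom X.property (fun i => (Xi i).obj) (fun i => (p i).hom) (fun i => (q i).hom)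
    (fun i => (Xi i).property) sq).2 hp

theorem iff_source (hP : IsSmoothLocalST P) {X Y : Space S} (f : X ⟶ Y) :
    P f.hom ↔ ∃ (ι : Type u) (Xi : ι → Space S) (g : ∀ i, Xi i ⟶ X),
      IsSmCover (fun i => (Xi i).obj) (fun i => (g i).hom) ∧ ∀ i, P (g i ≫ f).hom := by
  refine ⟨fun h => ⟨PUnit, fun _ => X, fun _ => 𝟙 X,
    ⟨fun _ => smooth_id X.property, fun y => ⟨⟨⟩, y, Points.map_id y⟩⟩,
    fun _ => by rwa [Category.id_comp]⟩, ?_⟩
  rintro ⟨ι, Xi, g, hg, hp⟩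
  exact (isLocalOnSource hP (fun i => (Xi i).obj) (fun i => (g i).hom) X.property (fun i => (Xi i).property) hg
    f.hom Y.property).2 hp

variable (h1 : IsLocalOnSource (IsSmCover (S := S)) P) (h2 : IsLocalOnBase (IsSmCover (S := S)) P)
  (h3 : ∀ ⦃X Y Z : Space S⦄ (f : X ⟶ Y) (g : Y ⟶ Z), P f.hom → LocP @Smooth g.hom → P (f ≫ g).hom)

include h1 in
theorem precomp_of_source {X Y Z : Sp S} (hX : IsAlgSpace X) (hY : IsAlgSpace Y) (hZ : IsAlgSpace Z)
    (f : X ⟶ Y) (g : Y ⟶ Z) (hf : LocP @Smooth f) (hg : P g) : P (f ≫ g) := by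
  have := (h1 (ι := ULift.{u} Bool) (fun i => cond i.down X Y)
    (fun i => match i with | ⟨true⟩ => f | ⟨false⟩ => 𝟙 Y) hY
    (fun i => match i with | ⟨true⟩ => hX | ⟨false⟩ => hY)
    ⟨fun i => match i with | ⟨true⟩ => hf | ⟨false⟩ => smooth_id hY,
      fun y => ⟨⟨false⟩, y, Points.map_id y⟩⟩ g hZ).1 hg ⟨true⟩
  exact this

include h2 in
theorem baseChange_of_base {X Y X' Y' : Sp S} (hX : IsAlgSpace X) (hY : IsAlgSpace Y) (hX' : IsAlgSpace X')
    (hY' : IsAlgSpace Y') (f : X ⟶ Y) (g : Y' ⟶ Y) (f' : X' ⟶ Y') (g' : X' ⟶ X)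
    (sq : IsPullback g' f' f g) (hg : LocP @Smooth g) (hf : P f) : P f' := by
  have := (h2 (ι := ULift.{u} Bool) (fun i => cond i.down Y' Y)
    (fun i => match i with | ⟨true⟩ => g | ⟨false⟩ => 𝟙 Y) hY
    (fun i => match i with | ⟨true⟩ => hY' | ⟨false⟩ => hY)
    ⟨fun i => match i with | ⟨true⟩ => hg | ⟨false⟩ => smooth_id hY,
      fun y => ⟨⟨false⟩, y, Points.map_id y⟩⟩ f hX (fun i => cond i.down X' X)
    (fun i => match i with | ⟨true⟩ => f' | ⟨false⟩ => f)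
    (fun i => match i with | ⟨true⟩ => g' | ⟨false⟩ => 𝟙 X)
    (fun i => match i with | ⟨true⟩ => hX' | ⟨false⟩ => hX)
    (fun i => match i with | ⟨true⟩ => sq | ⟨false⟩ => IsPullback.of_id_fst)).1 hf ⟨true⟩
  exact this

include h1 h2 h3 in
theorem isSmoothLocalST : IsSmoothLocalST P where
  precomp _ _ _ hX hY hZ f g hf hg := precomp_of_source h1 hX hY hZ f g hf hg
  baseChange _ _ _ _ hX hY hX' hY' f g f' g' sq hg hf := baseChange_of_base h2 hX hY hX' hY' f g f' g' sq hg hf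
  locality X Y hX hY f := ⟨fun hf x => ⟨X, Y, 𝟙 X, 𝟙 Y, f, x, hX, hY, smooth_id hX, smooth_id hY,
    by rw [Category.id_comp, Category.comp_id], Points.map_id x, hf⟩, fun h => by
      obtain ⟨X₀, c, hce, hcs⟩ := hX.atlas
      choose U V a b k v hU hV ha hb comm hv hk using fun x₀ : ↥X₀.left => h (Points.ofPt c x₀)
      refine (h1 U a hX hU ⟨ha, fun x => ?_⟩ f hY).2 fun i => ?_
      · obtain ⟨x₀, rfl⟩ := ofPt_surjective hcs x
        exact ⟨x₀, v x₀, hv x₀⟩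
      · rw [comm i]
        exact h3 (X := ⟨U i, hU i⟩) (Y := ⟨V i, hV i⟩) (Z := ⟨Y, hY⟩)
          (ObjectProperty.homMk (k i)) (ObjectProperty.homMk (b i)) (hk i) (hb i)⟩

end Groth.Agent.SmLocalST
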