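import Groth.Agent.SerreReg.Descent
import Mathlib.RingTheory.Unramified.LocalRing
import Mathlib.RingTheory.Ideal.GoingDown
import Mathlib.RingTheory.Flat.FaithfullyFlat.Algebra
import Mathlib.RingTheory.RingHom.EssFiniteType
import Mathlib.AlgebraicGeometry.Morphisms.Etale
import Mathlib.AlgebraicGeometry.Noetherian

/-!
# Regularity of local rings along etale morphisms
-/

universe u

open CategoryTheory AlgebraicGeometry IsLocalRing

namespace Groth.Agent.SmLocalST

theorem ringKrullDim_le_of_flat_local (A B : Type u) [CommRing A] [CommRing B] [IsLocalRing A] [IsLocalRing B]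
    [Algebra A B] [IsLocalHom (algebraMap A B)] [Module.Flat A B] : ringKrullDim A ≤ ringKrullDim B := by
  have : Module.FaithfullyFlat A B := Module.FaithfullyFlat.of_flat_of_isLocalHom
  refine iSup_le fun l => ?_
  obtain ⟨P, hP⟩ := PrimeSpectrum.comap_surjective_of_faithfullyFlat (A := A) (B := B) l.last
  have : P.asIdeal.LiesOver l.last.asIdeal := ⟨by rw [← hP]; rfl⟩
  obtain ⟨L, hL, -, -⟩ := Ideal.exists_ltSeries_of_hasGoingDown l P.asIdeal
  exact le_iSup_of_le L (by rw [hL])

theorem isRegularLocalRing_of_flat_unramified (A B : Type u) [CommRing A] [CommRing B] [IsRegularLocalRing A]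
    [IsLocalRing B] [IsNoetherianRing B] [Algebra A B] [IsLocalHom (algebraMap A B)] [Module.Flat A B]
    [Algebra.FormallyUnramified A B] [Algebra.EssFiniteType A B] : IsRegularLocalRing B := by
  refine IsRegularLocalRing.of_spanFinrank_maximalIdeal_le _ ?_
  rw [← Algebra.FormallyUnramified.map_maximalIdeal (R := A) (S := B)]
  calc ((((maximalIdeal A).map (algebraMap A B)).spanFinrank : ℕ) : WithBot ℕ∞)
      ≤ ((maximalIdeal A).spanFinrank : ℕ) :=
        by exact_mod_cast Ideal.spanFinrank_map_le_of_fg _ (IsNoetherian.noetherian _)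
    _ = ringKrullDim A := IsRegularLocalRing.spanFinrank_maximalIdeal
    _ ≤ ringKrullDim B := ringKrullDim_le_of_flat_local A B

variable {X Y : Scheme.{u}} (f : X ⟶ Y)

theorem isRegularLocalRing_stalk_of_etale [Etale f] [IsLocallyNoetherian X] (x : X)
    (h : IsRegularLocalRing (Y.presheaf.stalk (f x))) : IsRegularLocalRing (X.presheaf.stalk x) := by
  let A : Type u := Y.presheaf.stalk (f x)
  let B : Type u := X.presheaf.stalk x
  let : Algebra A B := (f.stalkMap x).hom.toAlgebra
  have : IsLocalHom (algebraMap A B) := inferInstanceAs (IsLocalHom (f.stalkMap x).hom)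
  have : Module.Flat A B := Flat.stalkMap f x
  have : Algebra.FormallyUnramified A B := FormallyUnramified.stalkMap f x
  have : Algebra.EssFiniteType A B := LocallyOfFiniteType.stalkMap f x
  exact isRegularLocalRing_of_flat_unramified A B

theorem isRegularLocalRing_stalk_of_flat [Flat f] [IsLocallyNoetherian Y] (x : X)
    (h : IsRegularLocalRing (X.presheaf.stalk x)) : IsRegularLocalRing (Y.presheaf.stalk (f x)) := by
  let A : Type u := Y.presheaf.stalk (f x)
  let B : Type u := X.presheaf.stalk x
  let : Algebra A B := (f.stalkMap x).hom.toAlgebra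
  have : IsLocalHom (algebraMap A B) := inferInstanceAs (IsLocalHom (f.stalkMap x).hom)
  have : Module.Flat A B := Flat.stalkMap f x
  exact SerreReg.isRegularLocalRing_of_flat A B

end Groth.Agent.SmLocalST
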