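import Groth.Agent.SmLocalST.Noeth
import Groth.Agent.SmLocalST.EtReg

/-!
# Descent of regularity along fppf surjections of algebraic spaces
-/

set_option backward.isDefEq.respectTransparency false

universe u

open CategoryTheory CategoryTheory.Limits AlgebraicGeometry Opposite

namespace Groth.Agent.SmLocalST

open _root_.AlgSp Groth.Agent.AlgSpLib

variable {S : Scheme.{u}}

theorem regular_of_fppf {X Y : Sp S} (hX : IsAlgSpace X) (hY : IsAlgSpace Y) (f : X ⟶ Y)
    (hfp : LocP @LocallyOfFinitePresentation f) (hfl : LocP @Flat f) (hs : IsSurjectiveMor f)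
    (hXr : EtaleLocally (fun U => IsLocallyNoetherian U ∧ ∀ u : ↥U, IsRegularLocalRing ↥(U.presheaf.stalk u)) X) :
    EtaleLocally (fun U => IsLocallyNoetherian U ∧ ∀ u : ↥U, IsRegularLocalRing ↥(U.presheaf.stalk u)) Y := by
  obtain ⟨U₀, a₀, ha₀e, ha₀s, hU₀, hreg⟩ := hXr
  obtain ⟨U, V, a, b, h, ha, hbe, hbs, comm, _, _, _⟩ := exists_fppf_chart hX hY f hfp hfl hs
  obtain ⟨U', u₁, u₀, sq⟩ := exists_pullback hX.diag a a₀
  have : Etale u₀.left := ha.2 _ _ u₀ sq
  have : Etale u₁.left := (repWith_yon_iff _).1 (repWith_baseChange sq.flip ha₀e)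
  have : Surjective u₁.left := (repWith_yon_iff _).1 (repWith_baseChange sq.flip ha₀s)
  have : IsLocallyNoetherian U'.left := LocallyOfFiniteType.isLocallyNoetherian u₀.left
  have : IsLocallyNoetherian V.left := Groth.Agent.S0116.result (u₁.left ≫ h.left)
  refine ⟨V, b, hbe, hbs, inferInstance, fun v => ?_⟩
  obtain ⟨u', rfl⟩ := (u₁.left ≫ h.left).surjective v
  exact isRegularLocalRing_stalk_of_flat _ u' (isRegularLocalRing_stalk_of_etale u₀.left u' (hreg _))

end Groth.Agent.SmLocalST
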