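import Groth.Agent.AlgSpLib.LocPMore
import Groth.Agent.AlgSpLib.Points
import Groth.Agent.AlgSpLib.DiagProp
import Groth.Agent.S0116

/-!
# Descent of local Noetherianness along fppf surjections of algebraic spaces
-/

set_option backward.isDefEq.respectTransparency false

universe u

open CategoryTheory CategoryTheory.Limits AlgebraicGeometry Opposite

namespace Groth.Agent.SmLocalST

open _root_.AlgSp Groth.Agent.AlgSpLib

variable {S : Scheme.{u}}

theorem exists_fppf_chart {X Y : Sp S} (hX : IsAlgSpace X) (hY : IsAlgSpace Y) (f : X ⟶ Y)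
    (hfp : LocP @LocallyOfFinitePresentation f) (hfl : LocP @Flat f) (hs : IsSurjectiveMor f) :
    ∃ (U V : Over S) (a : (yon S).obj U ⟶ X) (b : (yon S).obj V ⟶ Y) (h : U ⟶ V), RepWith @Etale a ∧
      RepWith @Etale b ∧ RepWith @Surjective b ∧ a ≫ f = (yon S).map h ≫ b ∧ Flat h.left ∧
      LocallyOfFinitePresentation h.left ∧ Surjective h.left := by
  obtain ⟨V, b, hbe, hbs⟩ := hY.atlas
  have sq := IsPullback.of_hasPullback f b
  have hXV := isAlgSpace_of_isPullback_space hY hX (IsAlgSpace.yon_obj V) sq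
  obtain ⟨U, w, hwe, hws⟩ := hXV.atlas
  obtain ⟨h, hh⟩ := exists_map_eq (w ≫ pullback.snd f b)
  have ha : RepWith @Etale (w ≫ pullback.fst f b) := repWith_comp hwe (repWith_baseChange sq.flip hbe)
  have comm : (w ≫ pullback.fst f b) ≫ f = (yon S).map h ≫ b := by
    rw [Category.assoc, sq.w, hh, Category.assoc]
  refine ⟨U, V, _, b, h, ha, hbe, hbs, comm, hfl _ b h ha hbe comm, hfp _ b h ha hbe comm, ⟨fun v => ?_⟩⟩
  obtain ⟨z, hz⟩ := isSurjectiveMor_baseChange sq hs (Points.ofScheme V v)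
  obtain ⟨u, rfl⟩ := ofPt_surjective hws z
  refine ⟨u, (Points.schemeEquiv V).injective ?_⟩
  change Points.ofScheme V (h.left u) = Points.ofScheme V v
  rw [← ofScheme_map, hh, ← Points.map_ofPt, hz]

theorem isLocNoethSp_of_fppf {X Y : Sp S} (hX : IsAlgSpace X) (hY : IsAlgSpace Y) (f : X ⟶ Y)
    (hfp : LocP @LocallyOfFinitePresentation f) (hfl : LocP @Flat f) (hs : IsSurjectiveMor f)
    (hXn : IsLocNoethSp X) : IsLocNoethSp Y := by
  obtain ⟨U₀, a₀, ha₀e, ha₀s, hU₀⟩ := hXn
  obtain ⟨U, V, a, b, h, ha, hbe, hbs, comm, _, _, _⟩ := exists_fppf_chart hX hY f hfp hfl hs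
  obtain ⟨U', u₁, u₀, sq⟩ := exists_pullback hX.diag a a₀
  have : Etale u₀.left := ha.2 _ _ u₀ sq
  have : Etale u₁.left := (repWith_yon_iff _).1 (repWith_baseChange sq.flip ha₀e)
  have : Surjective u₁.left := (repWith_yon_iff _).1 (repWith_baseChange sq.flip ha₀s)
  have : IsLocallyNoetherian U'.left := LocallyOfFiniteType.isLocallyNoetherian u₀.left
  exact ⟨V, b, hbe, hbs, Groth.Agent.S0116.result (u₁.left ≫ h.left)⟩

end Groth.Agent.SmLocalST
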