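import Groth.Agent.LargestOpen.Instances
import Groth.Prelude.Def_AlgSpCov

/-!
# Openness is fppf local on the source
-/

set_option backward.isDefEq.respectTransparency false

universe u

open CategoryTheory CategoryTheory.Limits AlgebraicGeometry Opposite

namespace Groth.Agent.SmLocalST

open _root_.AlgSp Groth.Agent.AlgSpLib Groth.Agent.LargestOpen

variable {S : Scheme.{u}}

theorem isLocalOnSource_isOpenMor : IsLocalOnSource (IsFppfCover (S := S)) (IsOpenMor (S := S)) := by
  intro ι X Xi g hX hXi hg Y f hY
  constructor
  · intro hf i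
    have hgo : IsOpenMap (Points.map (g i)) := good_fppf.isOpenMap (g i) (hXi i) hX (hg.1 i)
    have hfo : IsOpenMap (Points.map f) := hf
    change IsOpenMap (Points.map (g i ≫ f))
    rw [show Points.map (g i ≫ f) = Points.map f ∘ Points.map (g i) from funext (Points.map_comp _ _)]
    exact hfo.comp hgo
  · intro h O hO
    have : Points.map f '' O = ⋃ i, Points.map (g i ≫ f) '' (Points.map (g i) ⁻¹' O) := by
      ext y
      simp only [Set.mem_image, Set.mem_iUnion, Set.mem_preimage, Points.map_comp]
      constructor
      · rintro ⟨x, hx, rfl⟩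
        obtain ⟨i, z, rfl⟩ := hg.2 x
        exact ⟨i, z, hx, rfl⟩
      · rintro ⟨i, z, hz, rfl⟩
        exact ⟨_, hz, rfl⟩
    rw [this]
    exact isOpen_iUnion fun i => h i _ (hO.preimage (Points.continuous_map _))

theorem isLocalOnSource_isUnivOpenMor : IsLocalOnSource (IsFppfCover (S := S)) (IsUnivOpenMor (S := S)) := by
  intro ι X Xi g hX hXi hg Y f hY
  constructor
  · intro hf i P Z hZ t fst snd sq
    have sqA := IsPullback.of_hasPullback f t
    have hA := isAlgSpace_of_isPullback_space hY hX hZ sqA
    let l := sqA.lift (fst ≫ g i) snd (by rw [Category.assoc]; exact sq.w)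
    have hP := isAlgSpace_of_isPullback_space hY (hXi i) hZ sq
    have sql : IsPullback fst l (g i) (pullback.fst f t) := by
      refine IsPullback.of_bot ?_ (sqA.lift_fst _ _ _).symm sqA
      rw [sqA.lift_snd]
      exact sq
    have hl := good_fppf.baseChange fst l (g i) (pullback.fst f t) hP (hXi i) hA hX sql (hg.1 i)
    have hlo : IsOpenMap (Points.map l) := good_fppf.isOpenMap l hP hA hl
    have hso : IsOpenMap (Points.map (pullback.snd f t)) := hf hZ t _ _ sqA
    change IsOpenMap (Points.map snd)
    rw [show snd = l ≫ pullback.snd f t from (sqA.lift_snd _ _ _).symm,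
      show Points.map (l ≫ pullback.snd f t) = Points.map (pullback.snd f t) ∘ Points.map l from
        funext (Points.map_comp _ _)]
    exact hso.comp hlo
  · intro h P Z hZ t fst snd sq
    have hP := isAlgSpace_of_isPullback_space hY hX hZ sq
    have sqi := fun i => IsPullback.of_hasPullback (g i) fst
    have hPi := fun i => isAlgSpace_of_isPullback_space hX (hXi i) hP (sqi i)
    have hcov : IsFppfCover (fun i => pullback (g i) fst) (fun i => pullback.snd (g i) fst) := by
      refine ⟨fun i => good_fppf.baseChange _ _ (g i) fst (hPi i) (hXi i) hP hX (sqi i) (hg.1 i), fun x => ?_⟩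
      obtain ⟨i, z, hz⟩ := hg.2 (Points.map fst x)
      obtain ⟨w, -, hw⟩ := exists_point_of_isPullback (sqi i) z x hz
      exact ⟨i, w, hw⟩
    exact (isLocalOnSource_isOpenMor _ _ hP hPi hcov snd hZ).2 fun i =>
      h i hZ t _ _ ((sqi i).paste_vert sq)

end Groth.Agent.SmLocalST
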